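import Groth.Agent.Lib.HiggsStDesc.Phi
import Groth.Agent.Lib.ModStDesc.Glue
import Groth.Agent.Lib.Fibred.StackLemmas
import Groth.Agent.Lib.Modules.AffineSections

/-!
Pairs of a flat finitely presented module and a twisted endomorphism form a stack.
-/

set_option autoImplicit false
set_option backward.isDefEq.respectTransparency false
set_option backward.isDefEq.respectTransparency.types false
set_option linter.style.haveILetI false

universe u

open CategoryTheory CategoryTheory.Limits AlgebraicGeometry Opposite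
open ZarCoh.FlatBC.PullbackSections
open Groth.Agent.Lib.DescAlg.PbSec
open Groth.Agent.Lib.ModStDesc
open Groth.Agent.Lib.TensorMod Groth.Agent.Lib.TensorMod.Pullback
open Groth.Agent.Lib.TensorMod.Basic Groth.Agent.Lib.TensorMod.Free
open Groth.Agent.Lib.Fibred.Descent

namespace Groth.Agent.Lib.HiggsStDesc

variable {X S : Scheme.{u}} {f : X ⟶ S} {F : X.Modules}

theorem isQCoh_FT (A : HiggsSt.Obj f F) (hF : FlatMod.IsFinLocFree F) : A.FT.IsQuasicoherent := by
  haveI := Groth.Agent.Lib.Modules.AffineSections.isQCoh_of_isFinLocFree hF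
  haveI := _root_.Groth.Agent.Lib.QCoh.Pullback.isQCoh_pullback A.p F
  haveI := isIso_transpose A.ιcart
  exact (SheafOfModules.isQuasicoherent A.XT.ringCatSheaf).prop_of_iso
    (asIso (((Scheme.Modules.pullbackPushforwardAdjunction A.p).homEquiv F A.FT).symm A.ι)) ‹_›

theorem isCart_unit {Y Z : Scheme.{u}} (t : Y ⟶ Z) (M : Z.Modules) :
    ModSt.IsCart t ((Scheme.Modules.pullbackPushforwardAdjunction t).unit.app M) := by
  have h := isCart_of_isIso (𝟙 ((Scheme.Modules.pullback t).obj M))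
  rw [Adjunction.homEquiv_id] at h
  exact h

section Lift

variable (x : (HiggsSt.Endo f F).obj) {V : Over S} (g : V ⟶ x.obj.base)

/-- The forgotten object. -/
noncomputable abbrev toCoh (x : (HiggsSt.Endo f F).obj) : (ModSt.Coh f).obj := (HiggsSt.Endo.forget f F).obj x

/-- The pull back of a pair. -/
noncomputable def pbEObj : HiggsSt.Obj f F where
  toObj := (pb (toCoh x) g).obj
  FT := (Scheme.Modules.pullback (pullback.fst x.obj.q g.left)).obj x.obj.FT
  ι := x.obj.ι ≫ (Scheme.Modules.pushforward x.obj.p).map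
      ((Scheme.Modules.pullbackPushforwardAdjunction (pullback.fst x.obj.q g.left)).unit.app x.obj.FT) ≫
    (Scheme.Modules.pushforwardComp (pullback.fst x.obj.q g.left) x.obj.p).hom.app _
  ιcart := ModSt.IsCart.comp (isCart_unit _ _) x.obj.ιcart
  φ := (Scheme.Modules.pullback (pullback.fst x.obj.q g.left)).map x.obj.φ ≫
    delta (pullback.fst x.obj.q g.left) x.obj.E x.obj.FT

theorem compat_pb : HiggsSt.Obj.Compat (pbEObj x g) x.obj (pbHom (toCoh x) g).hom := by
  let t := pullback.fst x.obj.q g.left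
  refine ⟨(Scheme.Modules.pullbackPushforwardAdjunction t).unit.app x.obj.FT,
    (Scheme.Modules.pullbackPushforwardAdjunction t).homEquiv _ _ (delta t x.obj.E x.obj.FT),
    fun U w => HEq.rfl, fun U e w => ?_, ?_⟩
  · have h := pairM_delta_comp t (𝟙 _) (U := U) e w
    rw [Category.comp_id] at h
    exact h
  · show x.obj.φ ≫ (Scheme.Modules.pullbackPushforwardAdjunction t).homEquiv _ _ (delta t x.obj.E x.obj.FT) =
      (Scheme.Modules.pullbackPushforwardAdjunction t).unit.app x.obj.E ≫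
        (Scheme.Modules.pushforward t).map ((Scheme.Modules.pullback t).map x.obj.φ ≫ delta t x.obj.E x.obj.FT)
    rw [← Adjunction.homEquiv_naturality_left, Adjunction.homEquiv_unit]

/-- The pull back of a pair, as an object. -/
noncomputable def pbE : (HiggsSt.Endo f F).obj := ⟨pbEObj x g, (pb (toCoh x) g).property⟩

/-- The morphism from the pull back of a pair. -/
noncomputable def pbEHom : pbE x g ⟶ x := ObjectProperty.homMk ⟨(pbHom (toCoh x) g).hom, compat_pb x g⟩

end Lift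

theorem isFibGrpd_endo : FibCat.IsFibGrpd (HiggsSt.Endo f F).p := by
  refine ⟨fun {x V} g => ⟨pbE x g, pbEHom x g,
    @Functor.IsHomLift.map _ _ _ _ (HiggsSt.Endo f F).p (pbE x g) x (pbEHom x g)⟩, fun {y x} φ => ?_⟩
  have : (HiggsSt.Endo f F).p.IsHomLift ((HiggsSt.Endo f F).p.map φ) φ := Functor.IsHomLift.map _
  constructor
  intro z g ψ hψ
  have hb : g ≫ φ.hom.hom.base = ψ.hom.hom.base := by
    exact (IsHomLift.fac (HiggsSt.Endo f F).p (g ≫ (HiggsSt.Endo f F).p.map φ) ψ).trans (by simp; rfl)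
  obtain ⟨χ, ⟨hχb, hχ⟩, huniq⟩ := S17417.fill φ.hom.hom ψ.hom.hom g hb
  refine ⟨ObjectProperty.homMk ⟨χ, compat_of_comp φ.hom.compat (hχ ▸ ψ.hom.compat)⟩,
    ⟨?_, InducedCategory.hom_ext (HiggsSt.Obj.hom_ext hχ)⟩, fun χ' hχ' => ?_⟩
  · subst hχb
    exact @Functor.IsHomLift.map _ _ _ _ (HiggsSt.Endo f F).p z y (ObjectProperty.homMk ⟨χ, _⟩)
  · refine InducedCategory.hom_ext (HiggsSt.Obj.hom_ext
      (huniq χ'.hom.hom ⟨?_, congrArg (fun k => k.hom.hom) hχ'.2⟩))
    haveI := hχ'.1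
    exact Eq.symm ((IsHomLift.fac (HiggsSt.Endo f F).p g χ').trans (by simp; rfl))

instance faithful_forget : (HiggsSt.Endo.forget f F).toFunctor.Faithful where
  map_injective h := InducedCategory.hom_ext (HiggsSt.Obj.hom_ext (congrArg InducedCategory.Hom.hom h))

variable {U : Over S} {R : Sieve U}

theorem sep (hR : R ∈ QuotSh.J Scheme.fppfPrecoverage S U) : Sep R (HiggsSt.Endo f F) :=
  Fibred.StackLemmas.sep_of_faithful (HiggsSt.Endo.forget f F) isFibGrpd_endo (S17417.result f)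
    (ModStDesc.sep hR)

theorem glueHom (hF : FlatMod.IsFinLocFree F) (hR : R ∈ QuotSh.J Scheme.fppfPrecoverage S U) :
    GlueHom R (HiggsSt.Endo f F) := by
  intro ξ η hξ hη c hc
  obtain rfl : ξ.obj.base = U := hξ
  obtain ⟨c', hc', hcc'⟩ :=
    Fibred.StackLemmas.exists_map_fam (HiggsSt.Endo.forget f F) isFibGrpd_endo (S17417.result f) rfl c hc
  have hη' : (ModSt.Coh f).p.obj ((HiggsSt.Endo.forget f F).obj η) = ξ.obj.base := hη
  obtain ⟨a', ha', hae⟩ := ModStDesc.glueHom hR (rfl : (ModSt.Coh f).p.obj ((HiggsSt.Endo.forget f F).obj ξ) = ξ.obj.base)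
    hη' c' hc'
  obtain ⟨Fm⟩ := exists_fam hR
  let g : ∀ i, Over.mk (Fm.g i ≫ ξ.obj.base.hom) ⟶ ξ.obj.base := fun i => Over.homMk (Fm.g i) rfl
  haveI : ξ.obj.E.IsQuasicoherent := isQuasicoherent_obj (toCoh ξ)
  haveI := isQCoh_FT ξ.obj hF
  have hloc : HiggsSt.Obj.Compat ξ.obj η.obj a'.hom := by
    refine compat_of_local (ι := ξ.obj.base.left) (Z := fun i => (pbE ξ (g i)).obj)
      (fun i => (pbEHom ξ (g i)).hom.hom) (top_mem _ Fm.flat Fm.lfp Fm.surj) a'.hom
      (fun i => (pbEHom ξ (g i)).hom.compat) fun i => ?_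
    have hl : (HiggsSt.Endo f F).p.IsHomLift (g i) (pbEHom ξ (g i)) :=
      @Functor.IsHomLift.map _ _ _ _ (HiggsSt.Endo f F).p (pbE ξ (g i)) ξ (pbEHom ξ (g i))
    have hl' : (ModSt.Coh f).p.IsHomLift (g i) ((HiggsSt.Endo.forget f F).map (pbEHom ξ (g i))) :=
      ((HiggsSt.Endo.forget f F).isHomLift_iff _ _).mpr hl
    have e := (hae (g i) (Fm.mem i) _ hl').trans (hcc' (g i) (Fm.mem i) _ hl hl')
    have e' : (pbEHom ξ (g i)).hom.hom ≫ a'.hom = (c (g i) (Fm.mem i) _ hl).hom.hom :=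
      congrArg InducedCategory.Hom.hom e
    rw [e']
    exact (c (g i) (Fm.mem i) _ hl).hom.compat
  refine ⟨ObjectProperty.homMk ⟨a'.hom, hloc⟩,
    ((HiggsSt.Endo.forget f F).isHomLift_iff (𝟙 _) _).mp ha', fun V k hk z ψ hψ => ?_⟩
  have hψ' : (ModSt.Coh f).p.IsHomLift k ((HiggsSt.Endo.forget f F).map ψ) :=
    ((HiggsSt.Endo.forget f F).isHomLift_iff _ _).mpr hψ
  exact (HiggsSt.Endo.forget f F).toFunctor.map_injective
    ((hae k hk _ hψ').trans (hcc' k hk ψ hψ hψ'))

section GlueObj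

variable (H : Stk.sieveCat R ⥤ᵇ HiggsSt.Endo f F)

theorem glueObj_aux (hF : FlatMod.IsFinLocFree F) (Fm : ModStDesc.Fam R) :
    Nonempty (Glued H) := by
  let H' : Stk.sieveCat R ⥤ᵇ ModSt.Coh f := BasedFunctor.comp H (HiggsSt.Endo.forget f F)
  let G₀ : HiggsSt.Obj f F :=
    { toObj := Glue.G H' Fm
      FT := (Scheme.Modules.pullback (pullback.fst f U.hom)).obj F
      ι := (Scheme.Modules.pullbackPushforwardAdjunction (pullback.fst f U.hom)).unit.app F
      ιcart := isCart_unit _ _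
      φ := 0 }
  haveI : G₀.E.IsQuasicoherent := (Glue.dd H' Fm).isQuasicoherent_glue (Glue.fam_mem H' Fm)
  haveI : G₀.FT.IsQuasicoherent := isQCoh_FT G₀ hF
  obtain ⟨φ, hφ⟩ := exists_phi G₀ (Z := fun k => (H.obj (Glue.mem Fm k)).obj) (fun k => Glue.ιm H' Fm k)
    (Precoverage.generate_mem_toGrothendieck (Glue.fam_mem H' Fm))
    fun {T} k l a b hab => ⟨(H.obj (Glue.ptObj _ (Glue.inR_of H' a rfl))).obj,
      (H.map (Glue.toA H' (Glue.inR_of H' a rfl) a rfl)).hom,
      (H.map (Glue.toA H' (Glue.inR_of H' a rfl) b hab.symm)).hom,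
      Glue.sec H' _ (Glue.inR_of H' a rfl),
      Glue.map_ιm H' Fm (Glue.toA H' (Glue.inR_of H' a rfl) a rfl)
        (Glue.toA H' (Glue.inR_of H' a rfl) b hab.symm),
      Glue.sec_top H' (Glue.inR_of H' a rfl) a rfl, Glue.sec_top H' (Glue.inR_of H' a rfl) b hab.symm⟩
  let G : (HiggsSt.Endo f F).obj := ⟨{ G₀ with φ := φ }, Glue.isCoh_G H' Fm⟩
  have hc : ∀ a, HiggsSt.Obj.Compat (H.obj a).obj G.obj (Glue.ιa H' Fm a) := by
    intro a
    haveI : (H.obj a).obj.E.IsQuasicoherent := isQuasicoherent_obj (toCoh (H.obj a))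
    haveI := isQCoh_FT (H.obj a).obj hF
    refine compat_of_local (Z := fun k => (H.obj (Glue.cobj Fm a k)).obj)
      (fun k => (H.map (Glue.m₁ Fm a k)).hom.hom) (Glue.cover_mem H' Fm a) _
      (fun k => (H.map (Glue.m₁ Fm a k)).hom.compat) fun k => ?_
    have e : (H.map (Glue.m₁ Fm a k)).hom.hom ≫ Glue.ιa H' Fm a =
        (H.map (Glue.m₂ Fm a k)).hom.hom ≫ Glue.ιm H' Fm k := Glue.ιa_spec H' Fm a k
    rw [e]
    exact HiggsSt.Obj.compat_comp (H.map (Glue.m₂ Fm a k)).hom.compat (hφ k)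
  exact ⟨{
    pt := G
    proj := rfl
    «ι» := fun a => ObjectProperty.homMk ⟨Glue.ιa H' Fm a, hc a⟩
    lifts := fun a => IsHomLift.of_fac' _ _ _ (Glue.hA H' a) rfl
      (show (Glue.ιa H' Fm a).base = eqToHom (Glue.hA H' a) ≫ a.obj.hom ≫ eqToHom rfl by
        rw [Glue.ιa_base, eqToHom_refl]
        exact congrArg (eqToHom (Glue.hA H' a) ≫ ·) (Category.comp_id _).symm)
    w := fun a b m => InducedCategory.hom_ext (HiggsSt.Obj.hom_ext (Glue.map_ιa H' Fm m)) }⟩

end GlueObj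

theorem glueObj (hF : FlatMod.IsFinLocFree F) (hR : R ∈ QuotSh.J Scheme.fppfPrecoverage S U) :
    GlueObj R (HiggsSt.Endo f F) := by
  intro H
  obtain ⟨Fm⟩ := exists_fam hR
  exact glueObj_aux H hF Fm

/-- Pairs form a stack for the fppf topology. -/
theorem isStack_endo_fppf (hF : FlatMod.IsFinLocFree F) :
    Stk.IsStack (QuotSh.J Scheme.fppfPrecoverage S) (HiggsSt.Endo f F) :=
  ⟨isFibGrpd_endo, fun _ _ hR => (isStackFor_iff isFibGrpd_endo).2 ⟨sep hR, glueHom hF hR, glueObj hF hR⟩⟩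

/-- Pairs form a stack for the etale topology. -/
theorem isStack_endo_etale (hF : FlatMod.IsFinLocFree F) :
    Stk.IsStack (QuotSh.J Scheme.etalePrecoverage S) (HiggsSt.Endo f F) :=
  ⟨isFibGrpd_endo, fun U R hR => (isStack_endo_fppf hF).2 R (by
    rw [GrothendieckTopology.mem_over_iff] at hR ⊢
    exact Precoverage.toGrothendieck_mono BigSite.etalePrecoverage_le_fppfPrecoverage _ hR)⟩

end Groth.Agent.Lib.HiggsStDesc
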