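import Groth.Agent.Lib.HiggsStDesc.Pin

/-!
Descent of twisted endomorphisms along a covering family.
-/

set_option autoImplicit false
set_option backward.isDefEq.respectTransparency false
set_option backward.isDefEq.respectTransparency.types false
set_option linter.style.haveILetI false

universe u

open CategoryTheory CategoryTheory.Limits AlgebraicGeometry Opposite
open ZarCoh.FlatBC.PullbackSections
open Groth.Agent.Lib.DescAlg.PbSec
open Groth.Agent.Lib.ModStDesc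
open Groth.Agent.Lib.TensorMod

namespace Groth.Agent.Lib.HiggsStDesc

variable {X S : Scheme.{u}} {f : X ⟶ S} {F : X.Modules}

theorem inv_square {C : Type*} [Category C] {P P' Q Q' R R' : C} {A : P ⟶ Q} {B : Q ⟶ R} {K : P' ⟶ R} [IsIso K]
    {L : R ⟶ R'} [IsIso L] {D : Q ⟶ Q'} {E : Q' ⟶ R'} (h : B ≫ L = D ≫ E) {A' : P ⟶ Q'} (hA : A' = A ≫ D)
    {K' : P' ⟶ R'} [IsIso K'] (hK : K' = K ≫ L) : A ≫ B ≫ inv K = A' ≫ E ≫ inv K' := by
  subst hA hK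
  simp [← reassoc_of% h]

/-- Twisted endomorphisms on a covering family glue. -/
theorem exists_phi (G₀ : HiggsSt.Obj f F) [G₀.E.IsQuasicoherent] [G₀.FT.IsQuasicoherent] {ι : Type u}
    {Z : ι → HiggsSt.Obj f F} (ψ : ∀ k, (Z k).toObj ⟶ G₀.toObj)
    (hcov : Sieve.ofArrows (fun k => (Z k).XT) (fun k => (ψ k).top) ∈ Scheme.fpqcTopology G₀.XT)
    (hcomp : ∀ {T : Scheme.{u}} (k l : ι) (a : T ⟶ (Z k).XT) (b : T ⟶ (Z l).XT), a ≫ (ψ k).top = b ≫ (ψ l).top →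
      ∃ (Z₀ : HiggsSt.Obj f F) (ρ : Z₀ ⟶ Z k) (ρ' : Z₀ ⟶ Z l) (s : T ⟶ Z₀.XT),
        ρ.hom ≫ ψ k = ρ'.hom ≫ ψ l ∧ s ≫ ρ.hom.top = a ∧ s ≫ ρ'.hom.top = b) :
    ∃ φ : G₀.E ⟶ CohB1.tensorMod G₀.E G₀.FT,
      ∀ k, HiggsSt.Obj.Compat (Z k) { G₀ with φ := φ } (ψ k) := by
  haveI : (CohB1.tensorMod G₀.E G₀.FT).IsQuasicoherent := TensorQCoh.isQCoh_tensorMod G₀.E G₀.FT
  let Ψ : ∀ k, (Scheme.Modules.pullback (ψ k).top).obj G₀.E ⟶ (Scheme.Modules.pullback (ψ k).top).obj (CohB1.tensorMod G₀.E G₀.FT) := fun k =>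
    thM (ψ k) (𝟙 _) (ψ k).top (Category.id_comp _) ≫ (Scheme.Modules.pullback (𝟙 _)).map (Z k).φ ≫
      inv (thT (ψ k) (𝟙 _) (ψ k).top (Category.id_comp _))
  have hΨ : ∀ {T : Scheme.{u}} (q : T ⟶ G₀.XT) (k : ι) (a : T ⟶ (Z k).XT) (ha : a ≫ (ψ k).top = q),
      conj G₀.E (CohB1.tensorMod G₀.E G₀.FT) a ha (Ψ k) =
        thM (ψ k) a q ha ≫ (Scheme.Modules.pullback a).map (Z k).φ ≫ inv (thT (ψ k) a q ha) := by
    intro T q k a ha
    rw [← Category.assoc, IsIso.eq_comp_inv, conj,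
      thM_conj (ψ k) (𝟙 _) (ψ k).top (Category.id_comp _) a a q (Category.comp_id _) ha ha,
      show thT (ψ k) a q ha = th (ψ k).top (To (Z k) G₀ (ψ k)) a q ha from rfl,
      th_conj (ψ k).top (To (Z k) G₀ (ψ k)) (𝟙 _) (ψ k).top (Category.id_comp _) a a q (Category.comp_id _) ha]
    simp only [Category.assoc, Iso.hom_inv_id_assoc]
    rw [show th (ψ k).top (To (Z k) G₀ (ψ k)) (𝟙 _) (ψ k).top (Category.id_comp _) =
      thT (ψ k) (𝟙 _) (ψ k).top (Category.id_comp _) from rfl]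
    simp only [Ψ]
    rw [← Functor.map_comp_assoc]
    simp only [Category.assoc, IsIso.inv_hom_id, Category.comp_id]
    rw [Functor.map_comp, Category.assoc, tr_natural]
  have hcompat : ∀ ⦃T : Scheme.{u}⦄ (q : T ⟶ G₀.XT) ⦃k l : ι⦄ (a : T ⟶ (Z k).XT) (b : T ⟶ (Z l).XT)
      (ha : a ≫ (ψ k).top = q) (hb : b ≫ (ψ l).top = q), conj G₀.E (CohB1.tensorMod G₀.E G₀.FT) a ha (Ψ k) = conj G₀.E (CohB1.tensorMod G₀.E G₀.FT) b hb (Ψ l) := by
    intro T q k l a b ha hb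
    obtain ⟨Z₀, ρ, ρ', s, e, hs, hs'⟩ := hcomp k l a b (ha.trans hb.symm)
    rw [hΨ, hΨ]
    have key : ∀ {j : ι} (c : T ⟶ (Z j).XT) (hc : c ≫ (ψ j).top = q) (τ : Z₀ ⟶ Z j) (hτ : s ≫ τ.hom.top = c),
        thM (ψ j) c q hc ≫ (Scheme.Modules.pullback c).map (Z j).φ ≫ inv (thT (ψ j) c q hc) =
          thM (τ.hom ≫ ψ j) s q (by rw [ModSt.Obj.comp_top, reassoc_of% hτ, hc]) ≫
            (Scheme.Modules.pullback s).map Z₀.φ ≫
              inv (thT (τ.hom ≫ ψ j) s q (by rw [ModSt.Obj.comp_top, reassoc_of% hτ, hc])) := by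
      intro j c hc τ hτ
      have h' : s ≫ (τ.hom ≫ ψ j).top = q := by rw [ModSt.Obj.comp_top, reassoc_of% hτ, hc]
      exact inv_square (square τ.compat s c hτ) (thM_comp τ.hom (ψ j) s c q hτ hc h')
        (thT_comp τ.hom (ψ j) s c q hτ hc h')
    rw [key a ha ρ hs, key b hb ρ' hs']
    congr 1
    · exact thM_congr e _ _ _
    · congr 1
      simp only [thT_congr e]
  obtain ⟨φ, hφ⟩ := exists_hom (fun k => (ψ k).top) hcov Ψ hcompat
  refine ⟨φ, fun k => (compat_iff (B := { G₀ with φ := φ }) (ψ k)).2 (th_injective ?_)⟩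
  have h1 : To (Z k) { G₀ with φ := φ } (ψ k) = To (Z k) G₀ (ψ k) := rfl
  show th (ψ k).top (φ ≫ To (Z k) { G₀ with φ := φ } (ψ k)) (𝟙 _) (ψ k).top _ = _
  rw [h1, th_map_comp, hφ, th_comp_map]
  show _ ≫ thT (ψ k) (𝟙 _) (ψ k).top _ = thM (ψ k) (𝟙 _) (ψ k).top _ ≫ _
  simp only [Ψ, Category.assoc, IsIso.inv_hom_id, Category.comp_id]

end Groth.Agent.Lib.HiggsStDesc
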