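import Groth.Prelude.Def_HiggsSt
import Groth.Agent.Lib.ModStDesc.Hom
import Groth.Agent.Lib.TensorMod.Pullback
import Groth.Agent.Lib.TensorMod.TensorQCoh

/-!
The comparison maps of twisting modules and tensor products between pairs, and descent of twisted endomorphisms.
-/

set_option autoImplicit false
set_option backward.isDefEq.respectTransparency false
set_option backward.isDefEq.respectTransparency.types false
set_option linter.style.haveILetI false

universe u

open CategoryTheory CategoryTheory.Limits AlgebraicGeometry Opposite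
open ZarCoh.FlatBC.PullbackSections
open Groth.Agent.Lib.DescAlg.PbSec
open Groth.Agent.Lib.ModStDesc
open Groth.Agent.Lib.TensorMod Groth.Agent.Lib.TensorMod.Pullback
open Groth.Agent.Lib.TensorMod.Basic Groth.Agent.Lib.TensorMod.Free

namespace Groth.Agent.Lib.HiggsStDesc

theorem tr_natural {T Y X : Scheme.{u}} (g : T ⟶ Y) {u : Y ⟶ X} {v : T ⟶ X} (h : g ≫ u = v) {M N : X.Modules}
    (φ : M ⟶ N) :
    (Scheme.Modules.pullback g).map ((Scheme.Modules.pullback u).map φ) ≫ (tr g h N).hom =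
      (tr g h M).hom ≫ (Scheme.Modules.pullback v).map φ := by
  subst h
  simp only [tr, Scheme.Modules.pullbackCongr, Iso.trans_hom, Iso.app_hom, eqToIso_refl, Iso.refl_hom,
    NatTrans.id_app, Category.comp_id]
  exact (Scheme.Modules.pullbackComp g u).hom.naturality φ

section Th

variable {A B T : Scheme.{u}}

theorem th_comp_map (t : A ⟶ B) {N : B.Modules} {M M' : A.Modules}
    (c : N ⟶ (Scheme.Modules.pushforward t).obj M) (φ : M ⟶ M') (a : T ⟶ A) (w : T ⟶ B) (h : a ≫ t = w) :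
    th t (c ≫ (Scheme.Modules.pushforward t).map φ) a w h = th t c a w h ≫ (Scheme.Modules.pullback a).map φ := by
  simp only [th, Adjunction.homEquiv_naturality_right_symm, Functor.map_comp, Category.assoc]

theorem th_map_comp (t : A ⟶ B) {N N' : B.Modules} {M : A.Modules} (φ : N ⟶ N')
    (c : N' ⟶ (Scheme.Modules.pushforward t).obj M) (a : T ⟶ A) (w : T ⟶ B) (h : a ≫ t = w) :
    th t (φ ≫ c) a w h = (Scheme.Modules.pullback w).map φ ≫ th t c a w h := by
  refine hom_ext w fun U x => ?_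
  refine (th_pbRes t _ a w h le_rfl x).trans ?_
  refine Eq.trans ?_ (congrArg ((th t c a w h).app (w ⁻¹ᵁ U)) (pbRes_natural w φ le_rfl x)).symm
  exact (th_pbRes t c a w h le_rfl _).symm

theorem th_tcongr {t t' : A ⟶ B} (e : t = t') {N : B.Modules} {M : A.Modules}
    (c : N ⟶ (Scheme.Modules.pushforward t).obj M) (c' : N ⟶ (Scheme.Modules.pushforward t').obj M) (hc : HEq c c')
    (a : T ⟶ A) (w : T ⟶ B) (h : a ≫ t = w) : th t c a w h = th t' c' a w (e ▸ h) := by
  subst e
  obtain rfl := eq_of_heq hc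
  rfl

end Th

variable {X S : Scheme.{u}} {f : X ⟶ S} {F : X.Modules}

/-- The comparison of twisting modules over a morphism. -/
noncomputable def cFo (A B : HiggsSt.Obj f F) (g : A.toObj ⟶ B.toObj) :
    B.FT ⟶ (Scheme.Modules.pushforward g.top).obj A.FT :=
  haveI := isIso_transpose B.ιcart
  (Scheme.Modules.pullbackPushforwardAdjunction g.top).homEquiv _ _
    ((Scheme.Modules.pullback g.top).map
        (inv (((Scheme.Modules.pullbackPushforwardAdjunction B.p).homEquiv F B.FT).symm B.ι)) ≫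
      (tr g.top g.w_p F).hom ≫ ((Scheme.Modules.pullbackPushforwardAdjunction A.p).homEquiv F A.FT).symm A.ι)

variable {A B C : HiggsSt.Obj f F}

theorem isCart_cFo (g : A.toObj ⟶ B.toObj) : ModSt.IsCart g.top (cFo A B g) := by
  haveI := isIso_transpose A.ιcart
  haveI := isIso_transpose B.ιcart
  exact isCart_of_isIso _

theorem cFo_spec (g : A.toObj ⟶ B.toObj) (U : X.Opens) (w : Γ(F, U)) :
    HEq ((cFo A B g).app (B.p ⁻¹ᵁ U) (B.ι.app U w)) (A.ι.app U w) := by
  haveI := isIso_transpose B.ιcart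
  have key : ∀ {P Y : Scheme.{u}} (t : P ⟶ Y) (pB : Y ⟶ X) (pA : P ⟶ X) (h : t ≫ pB = pA) (FB : Y.Modules)
      (FA : P.Modules) (θB : (Scheme.Modules.pullback pB).obj F ⟶ FB) [IsIso θB]
      (θA : (Scheme.Modules.pullback pA).obj F ⟶ FA),
      HEq (((Scheme.Modules.pullbackPushforwardAdjunction t).homEquiv _ _
          ((Scheme.Modules.pullback t).map (inv θB) ≫ (tr t h F).hom ≫ θA)).app (pB ⁻¹ᵁ U)
            (((Scheme.Modules.pullbackPushforwardAdjunction pB).homEquiv F FB θB).app U w))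
        (((Scheme.Modules.pullbackPushforwardAdjunction pA).homEquiv F FA θA).app U w) := by
    intro P Y t pB pA h FB FA θB _ θA
    subst h
    refine heq_of_eq ?_
    have hb : ((Scheme.Modules.pullbackPushforwardAdjunction pB).homEquiv F FB θB).app U w =
        θB.app (pB ⁻¹ᵁ U) (pbRes pB F le_rfl w) := by
      rw [Adjunction.homEquiv_unit]
      show θB.app _ _ = θB.app _ (((Scheme.Modules.pullback pB).obj F).presheaf.map (𝟙 _) _)
      rw [CategoryTheory.Functor.map_id]
      rfl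
    rw [hb, Adjunction.homEquiv_unit, Adjunction.homEquiv_unit]
    show θA.app _ ((tr t rfl F).hom.app _ (((Scheme.Modules.pullback t).map (inv θB)).app _
      (unitSec t FB (θB.app (pB ⁻¹ᵁ U) (pbRes pB F le_rfl w))))) = θA.app _ (unitSec (t ≫ pB) F w)
    rw [← unitSec_natural]
    have e1 : (inv θB).app (pB ⁻¹ᵁ U) (θB.app (pB ⁻¹ᵁ U) (pbRes pB F le_rfl w)) = pbRes pB F le_rfl w := by
      show (θB ≫ inv θB).app (pB ⁻¹ᵁ U) _ = _
      rw [IsIso.hom_inv_id]
      rfl
    rw [e1]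
    have e2 : ∀ {P Y : Scheme.{u}} (k : P ⟶ Y) (M : Y.Modules) (V : Y.Opens) (m : Γ(M, V)),
        unitSec k M m = pbRes k M (le_refl (k ⁻¹ᵁ V)) m := fun k M V m => by
      show _ = ((Scheme.Modules.pullback k).obj M).presheaf.map (𝟙 _) _
      rw [CategoryTheory.Functor.map_id]
      rfl
    rw [e2, e2]
    congr 1
    have h3 := R_pbRes t (rfl : t ≫ pB = t ≫ pB) F (le_refl (pB ⁻¹ᵁ U)) (le_refl (t ⁻¹ᵁ (pB ⁻¹ᵁ U))) w
    rw [R_eq] at h3
    exact h3
  have := key g.top B.p A.p g.w_p B.FT A.FT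
    (((Scheme.Modules.pullbackPushforwardAdjunction B.p).homEquiv F B.FT).symm B.ι)
    (((Scheme.Modules.pullbackPushforwardAdjunction A.p).homEquiv F A.FT).symm A.ι)
  rw [Equiv.apply_symm_apply, Equiv.apply_symm_apply] at this
  exact this

theorem cF_unique (g : A.toObj ⟶ B.toObj) {c c' : B.FT ⟶ (Scheme.Modules.pushforward g.top).obj A.FT}
    (h : ∀ (U : X.Opens) (w : Γ(F, U)), HEq (c.app (B.p ⁻¹ᵁ U) (B.ι.app U w)) (A.ι.app U w))
    (h' : ∀ (U : X.Opens) (w : Γ(F, U)), HEq (c'.app (B.p ⁻¹ᵁ U) (B.ι.app U w)) (A.ι.app U w)) : c = c' := by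
  have e := fun (d : B.FT ⟶ (Scheme.Modules.pushforward g.top).obj A.FT)
      (hd : ∀ (U : X.Opens) (w : Γ(F, U)), HEq (d.app (B.p ⁻¹ᵁ U) (B.ι.app U w)) (A.ι.app U w)) =>
    th_comp g.w_p d B.ι A.ι (fun U x => (hd U x).symm) (𝟙 A.XT) g.top A.p (Category.id_comp _) g.w_p
  have h1 := (e c h).symm.trans (e c' h')
  haveI := isIso_th B.ιcart g.top A.p g.w_p
  exact th_injective ((cancel_epi _).1 h1)

/-- The comparison of tensor products over a morphism. -/
noncomputable def To (A B : HiggsSt.Obj f F) (g : A.toObj ⟶ B.toObj) :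
    CohB1.tensorMod B.E B.FT ⟶ (Scheme.Modules.pushforward g.top).obj (CohB1.tensorMod A.E A.FT) :=
  tmap g.c (cFo A B g) ≫ mu g.top A.E A.FT

theorem To_pin (g : A.toObj ⟶ B.toObj) : HiggsSt.TmulPin g.top g.c (cFo A B g) (To A B g) := fun U e w =>
  (show pairM (To A B g) e w = _ from (pairM_tmap_comp g.c (cFo A B g) _ e w).trans (pairM_mu g.top _ _))

theorem pin_unique {Y Z : Scheme.{u}} {h : Y ⟶ Z} {E₁ F₁ : Z.Modules} {E₂ F₂ : Y.Modules}
    {c : E₁ ⟶ (Scheme.Modules.pushforward h).obj E₂} {cF : F₁ ⟶ (Scheme.Modules.pushforward h).obj F₂}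
    {T T' : CohB1.tensorMod E₁ F₁ ⟶ (Scheme.Modules.pushforward h).obj (CohB1.tensorMod E₂ F₂)}
    (p : HiggsSt.TmulPin h c cF T) (p' : HiggsSt.TmulPin h c cF T') : T = T' :=
  hom_ext_pairM fun U e w => (show T.app U (SecTwist.tmul E₁ F₁ U e w) = T'.app U (SecTwist.tmul E₁ F₁ U e w) from
    (p U e w).trans (p' U e w).symm)

theorem isCart_To (g : A.toObj ⟶ B.toObj) : ModSt.IsCart g.top (To A B g) := by
  let a := ((Scheme.Modules.pullbackPushforwardAdjunction g.top).homEquiv _ _).symm g.c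
  let b := ((Scheme.Modules.pullbackPushforwardAdjunction g.top).homEquiv _ _).symm (cFo A B g)
  haveI : IsIso a := isIso_transpose g.cart
  haveI : IsIso b := isIso_transpose (isCart_cFo g)
  haveI : IsIso (tmap a b) := (tensorIso (asIso a) (asIso b)).isIso_hom
  haveI := isIso_delta g.top B.E B.FT
  have e : (Scheme.Modules.pullbackPushforwardAdjunction g.top).homEquiv _ _
      (delta g.top B.E B.FT ≫ tmap a b) = To A B g := by
    refine hom_ext_pairM fun U m n => ?_
    refine (pairM_delta_comp g.top (tmap a b) m n).trans ?_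
    refine Eq.trans ?_ (To_pin g U m n).symm
    rw [pairM_tmap]
    have ea : a.app (g.top ⁻¹ᵁ U) (unitSec g.top B.E m) = g.c.app U m := by
      have h0 := congrArg (fun k => Scheme.Modules.Hom.app k U m)
        (((Scheme.Modules.pullbackPushforwardAdjunction g.top).homEquiv _ _).apply_symm_apply g.c)
      rw [Adjunction.homEquiv_unit] at h0
      exact h0
    have eb : b.app (g.top ⁻¹ᵁ U) (unitSec g.top B.FT n) = (cFo A B g).app U n := by
      have h0 := congrArg (fun k => Scheme.Modules.Hom.app k U n)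
        (((Scheme.Modules.pullbackPushforwardAdjunction g.top).homEquiv _ _).apply_symm_apply (cFo A B g))
      rw [Adjunction.homEquiv_unit] at h0
      exact h0
    rw [ea, eb]
    rfl
  rw [← e]
  exact isCart_of_isIso _

theorem compat_iff (g : A.toObj ⟶ B.toObj) :
    HiggsSt.Obj.Compat A B g ↔ B.φ ≫ To A B g = g.c ≫ (Scheme.Modules.pushforward g.top).map A.φ := by
  constructor
  · rintro ⟨cF, T, hF, hp, he⟩
    obtain rfl := cF_unique g hF (cFo_spec g)
    obtain rfl := pin_unique hp (To_pin g)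
    exact he
  · exact fun he => ⟨_, _, cFo_spec g, To_pin g, he⟩

theorem To_comp (g : A.toObj ⟶ B.toObj) (h : B.toObj ⟶ C.toObj) :
    To A C (g ≫ h) = To B C h ≫ (Scheme.Modules.pushforward h.top).map (To A B g) ≫
      (Scheme.Modules.pushforwardComp g.top h.top).hom.app (CohB1.tensorMod A.E A.FT) := by
  have hF : cFo A C (g ≫ h) = cFo B C h ≫ (Scheme.Modules.pushforward h.top).map (cFo A B g) ≫
      (Scheme.Modules.pushforwardComp g.top h.top).hom.app A.FT := by
    refine cF_unique (g ≫ h) (cFo_spec _) fun U w => ?_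
    have e : h.top ⁻¹ᵁ (C.p ⁻¹ᵁ U) = B.p ⁻¹ᵁ U := by
      rw [← h.w_p]; rfl
    exact (HiggsSt.app_heq (cFo A B g) e (cFo_spec h U w)).trans (cFo_spec g U w)
  refine pin_unique (To_pin (g ≫ h)) ?_
  rw [hF]
  exact HiggsSt.TmulPin.comp (To_pin h) (To_pin g)

variable {T : Scheme.{u}}

/-- The value of the comparison of tensor products at a point. -/
noncomputable def thT (g : A.toObj ⟶ B.toObj) (a : T ⟶ A.XT) (w : T ⟶ B.XT) (h : a ≫ g.top = w) :
    (Scheme.Modules.pullback w).obj (CohB1.tensorMod B.E B.FT) ⟶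
      (Scheme.Modules.pullback a).obj (CohB1.tensorMod A.E A.FT) :=
  th g.top (To A B g) a w h

instance isIso_thT (g : A.toObj ⟶ B.toObj) (a : T ⟶ A.XT) (w : T ⟶ B.XT) (h : a ≫ g.top = w) :
    IsIso (thT g a w h) := isIso_th (isCart_To g) a w h

theorem thT_congr {g g' : A.toObj ⟶ B.toObj} (e : g = g') (a : T ⟶ A.XT) (w : T ⟶ B.XT) (h : a ≫ g.top = w) :
    thT g a w h = thT g' a w (e ▸ h) := by
  subst e
  rfl

theorem thT_comp (g : A.toObj ⟶ B.toObj) (k : B.toObj ⟶ C.toObj) (a : T ⟶ A.XT) (b : T ⟶ B.XT) (w : T ⟶ C.XT)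
    (hb : a ≫ g.top = b) (hw : b ≫ k.top = w) (h : a ≫ (g ≫ k).top = w) :
    thT (g ≫ k) a w h = thT k b w hw ≫ thT g a b hb :=
  th_comp rfl (To A B g) (To B C k) (To A C (g ≫ k)) (fun U x => by rw [To_comp]; rfl) a b w hb hw

theorem square {g : A.toObj ⟶ B.toObj} (hg : HiggsSt.Obj.Compat A B g) (a : T ⟶ A.XT) (w : T ⟶ B.XT)
    (h : a ≫ g.top = w) :
    (Scheme.Modules.pullback w).map B.φ ≫ thT g a w h = thM g a w h ≫ (Scheme.Modules.pullback a).map A.φ := by
  rw [thT, thM, ← th_map_comp, ← th_comp_map, (compat_iff g).1 hg]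

/-- Cancellation of a morphism of pairs on the right. -/
theorem compat_of_comp {g : A.toObj ⟶ B.toObj} {k : B.toObj ⟶ C.toObj} (hk : HiggsSt.Obj.Compat B C k)
    (hgk : HiggsSt.Obj.Compat A C (g ≫ k)) : HiggsSt.Obj.Compat A B g := by
  rw [compat_iff] at hk hgk ⊢
  refine (k.cart _).1 ?_
  show k.c ≫ (Scheme.Modules.pushforward k.top).map _ = k.c ≫ (Scheme.Modules.pushforward k.top).map _
  refine (cancel_mono ((Scheme.Modules.pushforwardComp g.top k.top).hom.app (CohB1.tensorMod A.E A.FT))).1 ?_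
  rw [Functor.map_comp, ← reassoc_of% hk, Category.assoc, Category.assoc, ← To_comp, hgk, ModSt.Obj.comp_c]
  simp only [Functor.map_comp, Category.assoc]
  congr 2

/-- Compatibility is local. -/
theorem compat_of_local [A.E.IsQuasicoherent] [A.FT.IsQuasicoherent] {ι : Type u} {Z : ι → HiggsSt.Obj f F}
    (ψ : ∀ k, (Z k).toObj ⟶ A.toObj)
    (hcov : Sieve.ofArrows (fun k => (Z k).XT) (fun k => (ψ k).top) ∈ Scheme.fpqcTopology A.XT)
    (χ : A.toObj ⟶ B.toObj) (hψ : ∀ k, HiggsSt.Obj.Compat (Z k) A (ψ k))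
    (h : ∀ k, HiggsSt.Obj.Compat (Z k) B (ψ k ≫ χ)) : HiggsSt.Obj.Compat A B χ := by
  rw [compat_iff]
  haveI := TensorQCoh.isQCoh_tensorMod A.E A.FT
  haveI := _root_.Groth.Agent.Lib.QCoh.Pullback.isQCoh_pullback (𝟙 A.XT) (CohB1.tensorMod A.E A.FT)
  refine th_injective (pullback_map_injective (fun k => (ψ k).top) hcov fun k => ?_)
  have e : ∀ m : B.E ⟶ (Scheme.Modules.pushforward χ.top).obj (CohB1.tensorMod A.E A.FT),
      (Scheme.Modules.pullback (ψ k).top).map (th χ.top m (𝟙 A.XT) χ.top (Category.id_comp _)) =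
        (tr (ψ k).top rfl B.E).hom ≫
          (th ((ψ k).top ≫ χ.top) (m ≫ (Scheme.Modules.pushforward χ.top).map (To (Z k) A (ψ k)) ≫
              (Scheme.Modules.pushforwardComp (ψ k).top χ.top).hom.app _) (𝟙 _) ((ψ k).top ≫ χ.top)
              (Category.id_comp _) ≫ inv (thT (ψ k) (𝟙 _) (ψ k).top (Category.id_comp _))) ≫
          (tr (ψ k).top (Category.comp_id _) (CohB1.tensorMod A.E A.FT)).inv := by
    intro m
    rw [th_comp rfl (To (Z k) A (ψ k)) m _ (fun U x => HEq.rfl) (𝟙 _) (ψ k).top ((ψ k).top ≫ χ.top)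
      (Category.id_comp _) rfl]
    rw [show th (ψ k).top (To (Z k) A (ψ k)) (𝟙 _) (ψ k).top (Category.id_comp _) =
      thT (ψ k) (𝟙 _) (ψ k).top (Category.id_comp _) from rfl]
    simp only [Category.assoc, IsIso.hom_inv_id_assoc]
    rw [th_conj χ.top m (𝟙 A.XT) χ.top (Category.id_comp _) (ψ k).top (ψ k).top ((ψ k).top ≫ χ.top)
      (Category.comp_id _) rfl]
    simp only [Category.assoc, Iso.hom_inv_id, Category.comp_id, Iso.hom_inv_id_assoc]
  rw [e, e]
  congr 4
  have h1 := (compat_iff _).1 (h k)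
  have h2 := (compat_iff _).1 (hψ k)
  rw [To_comp, ModSt.Obj.comp_c] at h1
  refine (Category.assoc _ _ _).trans (h1.trans ?_)
  simp only [Category.assoc]
  rw [← Functor.map_comp_assoc, h2, Functor.map_comp, Category.assoc]
  congr 2

end Groth.Agent.Lib.HiggsStDesc
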